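import Groth.Agent.Lib.Algz56.Push

/-!
# Adjuncts along the transition maps of the levels
-/

set_option autoImplicit false
set_option linter.style.haveILetI false
set_option linter.unusedSectionVars false
universe u

open CategoryTheory CategoryTheory.Limits AlgebraicGeometry Opposite TopologicalSpace

noncomputable section

namespace GrothLib.FFormal7

/-- The adjunct of a map out of a pullback. -/
abbrev adjunct {X Y : Scheme.{u}} (f : X ⟶ Y) {M : Y.Modules} {F : X.Modules}
    (α : (Scheme.Modules.pullback f).obj M ⟶ F) : M ⟶ (Scheme.Modules.pushforward f).obj F :=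
  (Scheme.Modules.pullbackPushforwardAdjunction f).unit.app M ≫ (Scheme.Modules.pushforward f).map α

theorem adjunct_app {X Y : Scheme.{u}} (f : X ⟶ Y) {M : Y.Modules} {F : X.Modules}
    (α : (Scheme.Modules.pullback f).obj M ⟶ F) (U : Y.Opens) (m : Γ(M, U)) :
    (adjunct f α).app U m = α.app (f ⁻¹ᵁ U) (((Scheme.Modules.pullbackPushforwardAdjunction f).unit.app M).app U m) :=
  rfl

theorem adjunct_injective {X Y : Scheme.{u}} (f : X ⟶ Y) {M : Y.Modules} {F : X.Modules}
    {α β : (Scheme.Modules.pullback f).obj M ⟶ F} (h : adjunct f α = adjunct f β) : α = β :=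
  ((Scheme.Modules.pullbackPushforwardAdjunction f).homEquiv M F).injective
    ((Adjunction.homEquiv_unit _ _ _ _).trans (h.trans (Adjunction.homEquiv_unit _ _ _ _).symm))

theorem adjunct_map {X Y : Scheme.{u}} (f : X ⟶ Y) {M N : Y.Modules} (φ : M ⟶ N) :
    adjunct f ((Scheme.Modules.pullback f).map φ) = φ ≫ adjunct f (𝟙 _) :=
  ((Scheme.Modules.pullbackPushforwardAdjunction f).unit.naturality φ).symm.trans
    (congrArg (φ ≫ ·) ((congrArg ((Scheme.Modules.pullbackPushforwardAdjunction f).unit.app N ≫ ·)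
      ((Scheme.Modules.pushforward f).map_id _)).trans (Category.comp_id _)).symm)

/-- The map induced on the lower level. -/
abbrev lowerMap {X X' Y : Scheme.{u}} {i : X ⟶ X'} {e' : X' ⟶ Y} {e : X ⟶ Y} (he : e = i ≫ e') {M : Y.Modules}
    {F' : X'.Modules} {F : X.Modules} (α : (Scheme.Modules.pullback e').obj M ⟶ F')
    (ψ : (Scheme.Modules.pullback i).obj F' ≅ F) : (Scheme.Modules.pullback e).obj M ⟶ F :=
  (Scheme.Modules.pullbackCongr he).hom.app M ≫ (Scheme.Modules.pullbackComp i e').inv.app M ≫
    (Scheme.Modules.pullback i).map α ≫ ψ.hom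

theorem adjunct_lowerMap {X X' Y : Scheme.{u}} {i : X ⟶ X'} {e' : X' ⟶ Y} {e : X ⟶ Y} (he : e = i ≫ e')
    {M : Y.Modules} {F' : X'.Modules} {F : X.Modules} (α : (Scheme.Modules.pullback e').obj M ⟶ F')
    (ψ : (Scheme.Modules.pullback i).obj F' ≅ F) :
    adjunct e (lowerMap he α ψ) = adjunct e' α ≫ (Scheme.Modules.pushforward e').map
      ((Scheme.Modules.pullbackPushforwardAdjunction i).unit.app F' ≫ (Scheme.Modules.pushforward i).map ψ.hom) ≫
      (Scheme.Modules.pushforwardComp i e').hom.app F ≫ (Scheme.Modules.pushforwardCongr he.symm).hom.app F := by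
  subst he
  refine Scheme.Modules.hom_ext _ _ fun U => ?_
  ext m
  have h1 := congrArg (fun φ : M ⟶ (Scheme.Modules.pushforward (i ≫ e')).obj
    ((Scheme.Modules.pullback (i ≫ e')).obj M) => φ.app U m) (Algz56.unit_pullbackComp i e' M)
  let u := ((Scheme.Modules.pullbackPushforwardAdjunction e').unit.app M).app U m
  let V := e' ⁻¹ᵁ U
  have h2 : ((Scheme.Modules.pullbackComp i e').inv.app M).app (i ⁻¹ᵁ V)
      (((Scheme.Modules.pullbackPushforwardAdjunction (i ≫ e')).unit.app M).app U m) =
      ((Scheme.Modules.pullbackPushforwardAdjunction i).unit.app ((Scheme.Modules.pullback e').obj M)).app V u := by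
    refine (congrArg (((Scheme.Modules.pullbackComp i e').inv.app M).app (i ⁻¹ᵁ V)) h1.symm).trans ?_
    exact congrArg (fun φ : (Scheme.Modules.pullback i).obj ((Scheme.Modules.pullback e').obj M) ⟶ _ =>
      φ.app (i ⁻¹ᵁ V) _) ((Scheme.Modules.pullbackComp i e').hom_inv_id_app M)
  have h3 := congrArg (fun φ : (Scheme.Modules.pullback e').obj M ⟶
    (Scheme.Modules.pushforward i).obj ((Scheme.Modules.pullback i).obj F') => φ.app V u)
    ((Scheme.Modules.pullbackPushforwardAdjunction i).unit.naturality α)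
  refine ((congrArg (ψ.hom.app (i ⁻¹ᵁ V)) ((congrArg (((Scheme.Modules.pullback i).map α).app (i ⁻¹ᵁ V)) h2).trans
      h3.symm)).trans ?_)
  exact (ConcreteCategory.congr_hom (F.presheaf.map_id _) _).symm

end GrothLib.FFormal7
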