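import Groth.Agent.Lib.Algz56.Push
import Groth.Agent.Lib.FSchSys.Completion
import Groth.Prelude.Def_FSch3

/-!
# The completion along the ideal of the base as an adic system
-/

set_option autoImplicit false
set_option linter.style.haveILetI false
set_option linter.unusedSectionVars false
universe u

open CategoryTheory CategoryTheory.Limits AlgebraicGeometry Opposite TopologicalSpace

noncomputable section

namespace GrothLib.FFormal7

open GrothLib.UnifVanish7

variable {A : Type u} [CommRing A] (J : Ideal A) (X : Scheme.{u}) [X.Over (Spec (CommRingCat.of A))]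

/-- The ideal of the base on `X`. -/
abbrev baseIdeal : X.IdealSheafData := (FSch.idealSpec A J).comap (X ↘ Spec (CommRingCat.of A))

/-- The levels of the completion. -/
abbrev lev (k : ℕ) : Scheme.{u} := (FSch.completionAlong X (baseIdeal J X)).X k

/-- The inclusion of a level. -/
abbrev levι (k : ℕ) : lev J X k ⟶ X := FSch.completionToX X (baseIdeal J X) k

/-- The transition maps. -/
abbrev levTrans (k : ℕ) : lev J X k ⟶ lev J X (k + 1) := (FSch.completionAlong X (baseIdeal J X)).ι k

instance levOver (k : ℕ) : (lev J X k).Over (Spec (CommRingCat.of A)) :=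
  ⟨levι J X k ≫ (X ↘ Spec (CommRingCat.of A))⟩

theorem ker_levι (k : ℕ) :
    (levι J X k).ker = (CohB1.thickι (X ↘ Spec (CommRingCat.of A)) J k).ker := by
  rw [FormalExist7.ker_thickι, FSchSys.ker_completionToX, ← FSchSys.comap_pow]
  congr 1
  exact (FSchSys.ker_spec_quot_pow J (k + 1)).symm

/-- A level is the thickening. -/
def levIso (k : ℕ) : lev J X k ≅ CohB1.thick (X ↘ Spec (CommRingCat.of A)) J k :=
  haveI := FormalExist7.isClosedImmersion_thickι (X ↘ Spec (CommRingCat.of A)) J k
  { hom := IsClosedImmersion.lift (CohB1.thickι _ J k) (levι J X k) (ker_levι J X k).ge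
    inv := IsClosedImmersion.lift (levι J X k) (CohB1.thickι _ J k) (ker_levι J X k).le
    hom_inv_id := by
      rw [← cancel_mono (levι J X k), Category.assoc, IsClosedImmersion.lift_fac, IsClosedImmersion.lift_fac,
        Category.id_comp]
    inv_hom_id := by
      rw [← cancel_mono (CohB1.thickι _ J k), Category.assoc, IsClosedImmersion.lift_fac, IsClosedImmersion.lift_fac,
        Category.id_comp] }

theorem levIso_hom_fst (k : ℕ) :
    (levIso J X k).hom ≫ CohB1.thickι (X ↘ Spec (CommRingCat.of A)) J k = levι J X k :=
  haveI := FormalExist7.isClosedImmersion_thickι (X ↘ Spec (CommRingCat.of A)) J k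
  IsClosedImmersion.lift_fac _ _ _

/-- The structure map of a level over the thickened base. -/
def levBase (k : ℕ) : lev J X k ⟶ Spec (CommRingCat.of (A ⧸ J ^ (k + 1))) :=
  (levIso J X k).hom ≫ CohB1.thickToBase (X ↘ Spec (CommRingCat.of A)) J k

theorem isPullback_lev (k : ℕ) :
    IsPullback (levι J X k) (levBase J X k) (X ↘ Spec (CommRingCat.of A)) (CohB1.specQuot J k) :=
  (IsPullback.of_hasPullback (X ↘ Spec (CommRingCat.of A)) (CohB1.specQuot J k)).of_iso (levIso J X k).symm
    (Iso.refl _) (Iso.refl _) (Iso.refl _)
    ((Category.comp_id _).trans ((congrArg ((levIso J X k).inv ≫ ·) (levIso_hom_fst J X k)).symm.trans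
      ((levIso J X k).inv_hom_id_assoc _)).symm)
    ((Category.comp_id _).trans ((levIso J X k).inv_hom_id_assoc _).symm)
    (by simp) (by simp)

theorem levι_trans (k : ℕ) : levTrans J X k ≫ levι J X (k + 1) = levι J X k :=
  FSchSys.ι_completionToX (baseIdeal J X) k

theorem isAdicSys_lev : IsAdicSys J (levTrans J X) (levBase J X) := by
  refine ⟨fun k => ?_, fun k => (isPullback_lev J X k).w⟩
  have h2 : IsPullback (levTrans J X k ≫ levι J X (k + 1)) (levBase J X k) (X ↘ Spec (CommRingCat.of A))
      (CohB1.specQuotTrans J k ≫ CohB1.specQuot J (k + 1)) := by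
    rw [levι_trans, CohB1.specQuotTrans_specQuot]
    exact isPullback_lev J X k
  refine h2.of_right ?_ (isPullback_lev J X (k + 1))
  haveI := FormalExist7.isClosedImmersion_specQuot J (k + 1)
  rw [← cancel_mono (CohB1.specQuot J (k + 1)), Category.assoc, Category.assoc, ← (isPullback_lev J X (k + 1)).w,
    ← Category.assoc, levι_trans, (isPullback_lev J X k).w, CohB1.specQuotTrans_specQuot]

theorem isProper_levBase [IsProper (X ↘ Spec (CommRingCat.of A))] (k : ℕ) : IsProper (levBase J X k) :=
  MorphismProperty.of_isPullback (isPullback_lev J X k) inferInstance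

end GrothLib.FFormal7
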