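import Groth.Agent.Lib.FFormal7.Compl
import Groth.Agent.Lib.FormalExist7.Support

/-!
# Completion is fully faithful on coherent modules with proper support
-/

set_option autoImplicit false
set_option linter.style.haveILetI false
set_option linter.unusedSectionVars false
universe u

open CategoryTheory CategoryTheory.Limits AlgebraicGeometry Opposite TopologicalSpace

noncomputable section

namespace GrothLib.FFormal7

open GrothLib.UnifVanish7 GrothLib.Algz56
open GrothLib.FormalFun (toSec toStalk)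

section Levels

variable {A : Type u} [CommRing A] [IsNoetherianRing A] {J : Ideal A} {Xs : ℕ → Scheme.{u}}
  [hX : ∀ k, (Xs k).Over (Spec (CommRingCat.of A))]
  {i : (k : ℕ) → (Xs k ⟶ Xs (k + 1))}
  {p : (k : ℕ) → (Xs k ⟶ Spec (CommRingCat.of (A ⧸ J ^ (k + 1))))}
  {Y : Scheme.{u}} [Y.Over (Spec (CommRingCat.of A))] [IsSeparated (Y ↘ Spec (CommRingCat.of A))]
  [LocallyOfFiniteType (Y ↘ Spec (CommRingCat.of A))] [QuasiCompact (Y ↘ Spec (CommRingCat.of A))]
  {e : ∀ k, Xs k ⟶ Y}
  (h : IsAdicSys J i p)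
  (hpb : ∀ k, IsPullback (e k) (p k) (Y ↘ Spec (CommRingCat.of A)) (CohB1.specQuot J k))
  (hec : ∀ k, e k = i k ≫ e (k + 1))

include h hpb in
/-- The adjunct of an isomorphism is a quotient by the power of the ideal. -/
theorem isQuot_adjunct_sep {M : Y.Modules} (hM : Coh.IsCoh M) (k : ℕ) {F : (Xs k).Modules}
    (χ : (Scheme.Modules.pullback (e k)).obj M ⟶ F) [IsIso χ] :
    FormalSys.IsQuot (J ^ (k + 1)) (adjunct (e k) χ) := by
  haveI := LocallyOfFiniteType.isLocallyNoetherian (Y ↘ Spec (CommRingCat.of A))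
  haveI := isClosedImmersion_e hpb k
  haveI := hM.1
  have hc : Coh.IsCoh ((Scheme.Modules.pushforward (e k)).obj ((Scheme.Modules.pullback (e k)).obj M)) := by
    haveI : IsLocallyNoetherian (Xs k) := LocallyOfFiniteType.isLocallyNoetherian (e k)
    exact FormalExist7.isCoh_pushforward (e k) (FormalExist7.isCoh_pullbackMod (e k) hM)
  haveI : ((Scheme.Modules.pullback (e k) ⋙ Scheme.Modules.pushforward (e k)).obj M).IsQuasicoherent := hc.1
  haveI : Epi ((Scheme.Modules.pullbackPushforwardAdjunction (e k)).unit.app M) :=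
    K0Sub.epi_of_app_surjective _ fun U => (K0Sub.app_unit_surjective_and_ker (e k) M U).1
  refine FormalSys.IsQuot.comp_isIso ?_ ((Scheme.Modules.pushforward (e k)).map χ)
  refine FormalExist7.isQuot_of_stalk _ (killedBy_push h hpb k _) fun y v hv => ?_
  refine ker_stalkLin_of_sections _ (J ^ (k + 1)) (fun U m hm => ?_) y hv
  rw [← ker_e hpb k U]
  exact ((K0Sub.app_unit_surjective_and_ker (e k) M U).2 m).1 hm


/-- Maps to a compatible family of quotients come from a unique map. -/
theorem existsUnique_hom_quots_supp [IsAdicComplete J A] {M N : Y.Modules} (hM : Coh.IsCoh M) (hN : Coh.IsCoh N)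
    (hMs : FormalExist7.ProperSupp A M)
    (Q : ℕ → Y.Modules) (t : ∀ k, Q (k + 1) ⟶ Q k) (u : ∀ k, N ⟶ Q k)
    (hu : ∀ k, FormalSys.IsQuot (J ^ (k + 1)) (u k)) (hut : ∀ k, u (k + 1) ≫ t k = u k)
    (g : ∀ k, M ⟶ Q k) (hg : ∀ k, g (k + 1) ≫ t k = g k) : ∃! φ : M ⟶ N, ∀ k, φ ≫ u k = g k := by
  choose eN heN using fun k => (FormalSys.IsQuot.modPowπ J (k + 1) N).exists_iso (hu k)
  choose d hd using fun k => (FormalSys.IsQuot.modPowπ J (k + 1) M).exists_desc' (g k) (hu k).killedBy
  have hNt : ∀ k, (Formal.completion J N).map (homOfLE (Nat.le_succ k)).op ≫ (eN k).hom =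
      (eN (k + 1)).hom ≫ t k := fun k => by
    haveI := (FormalSys.IsQuot.modPowπ J (k + 1 + 1) N).epi
    refine (cancel_epi (Formal.modPowπ J (k + 1 + 1) N)).1 ?_
    refine (Category.assoc _ _ _).symm.trans ?_
    refine ((congrArg (· ≫ (eN k).hom) (FormalSys.completion_map_succ N k)).trans (heN k)).trans ?_
    rw [reassoc_of% (heN (k + 1)), hut]
  let β : ∀ k, Formal.modPow J (k + 1) M ⟶ Formal.modPow J (k + 1) N := fun k => d k ≫ (eN k).inv
  have hβ : ∀ k, Formal.modPowπ J (k + 1) M ≫ β k ≫ (eN k).hom = g k := fun k => by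
    simp only [β, Category.assoc, Iso.inv_hom_id, Category.comp_id]
    exact hd k
  let β' : Formal.completion J M ⟶ Formal.completion J N := FormalSys.natTrans β fun k => by
    haveI := (FormalSys.IsQuot.modPowπ J (k + 1 + 1) M).epi
    refine (cancel_epi (Formal.modPowπ J (k + 1 + 1) M)).1 ((cancel_mono (eN k).hom).1 ?_)
    calc (Formal.modPowπ J (k + 1 + 1) M ≫ (Formal.completion J M).map (homOfLE (Nat.le_succ k)).op ≫ β k) ≫ (eN k).hom
        = Formal.modPowπ J (k + 1) M ≫ β k ≫ (eN k).hom := by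
          exact (congrArg (· ≫ (eN k).hom) ((Category.assoc _ _ _).symm.trans
            (congrArg (· ≫ β k) (FormalSys.completion_map_succ M k)))).trans (Category.assoc _ _ _)
      _ = g (k + 1) ≫ t k := (hβ k).trans (hg k).symm
      _ = (Formal.modPowπ J (k + 1 + 1) M ≫ β (k + 1) ≫ (eN (k + 1)).hom) ≫ t k := by rw [hβ (k + 1)]
      _ = _ := by
          refine ((Category.assoc _ _ _).trans (congrArg (Formal.modPowπ J (k + 1 + 1) M ≫ ·) ((Category.assoc _ _ _).trans
            (congrArg (β (k + 1) ≫ ·) (hNt k).symm)))).trans ?_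
          exact ((Category.assoc _ _ _).trans (congrArg (Formal.modPowπ J (k + 1 + 1) M ≫ ·) (Category.assoc _ _ _))).symm
  obtain ⟨φ, hφ, huniq⟩ := FormalExist7.existsUnique_hom_of_properSupp J hM hN hMs β'
  have key : ∀ (φ : M ⟶ N) (k : ℕ), φ ≫ u k = g k ↔
      Formal.modPowπ J (k + 1) M ≫ β k = φ ≫ Formal.modPowπ J (k + 1) N := fun φ k => by
    constructor
    · intro hc
      exact (cancel_mono (eN k).hom).1 ((Category.assoc _ _ _).trans ((hβ k).trans (hc.symm.trans
        ((congrArg (φ ≫ ·) (heN k)).symm.trans (Category.assoc _ _ _).symm))))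
    · intro hc
      exact (congrArg (φ ≫ ·) (heN k)).symm.trans ((Category.assoc _ _ _).symm.trans
        ((congrArg (· ≫ (eN k).hom) hc.symm).trans ((Category.assoc _ _ _).trans (hβ k))))
  exact ⟨φ, fun k => (key φ k).2 (hφ k), fun φ' hφ' => huniq φ' fun k => (key φ' k).1 (hφ' k)⟩


include h hpb in
/-- Morphisms of coherent modules are the compatible families of morphisms of their levels. -/
theorem existsUnique_hom_levels_supp [IsAdicComplete J A] {M N : Y.Modules} (hM : Coh.IsCoh M) (hN : Coh.IsCoh N)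
    (hMs : FormalExist7.ProperSupp A M)
    (α : ∀ k, pushPull e M k ⟶ pushPull e N k)
    (hα : ∀ k, (Scheme.Modules.pullback (i k)).map (α (k + 1)) ≫ (lamb hec N k).hom = (lamb hec M k).hom ≫ α k) :
    ∃! φ : M ⟶ N, ∀ k, (Scheme.Modules.pullback (e k)).map φ = α k := by
  obtain ⟨φ, hφ, huniq⟩ := existsUnique_hom_quots_supp hM hN hMs
    (fun j => (Scheme.Modules.pushforward (e j)).obj (pushPull e N j))
    (fun j => pushTau (F := pushPull e N) hec (lamb hec N) j)
    (fun j => adjunct (e j) (𝟙 (pushPull e N j))) (fun j => isQuot_adjunct_sep h hpb hN j (𝟙 (pushPull e N j)))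
    (fun j => compat_id hec N j)
    (fun j => adjunct (e j) (α j)) (fun j => (compat_iff hec (F := pushPull e N) (lamb hec N) α j).1 (hα j))
  refine ⟨φ, fun k => adjunct_injective (e k) ((adjunct_map (e k) φ).trans (hφ k)), fun φ' hφ' => huniq φ' fun k => ?_⟩
  exact (adjunct_map (e k) φ').symm.trans (congrArg (adjunct (e k)) (hφ' k))


end Levels

variable {A : Type u} [CommRing A] [IsNoetherianRing A] (J : Ideal A) [IsAdicComplete J A]
  {X : Scheme.{u}} [X.Over (Spec (CommRingCat.of A))] [IsSeparated (X ↘ Spec (CommRingCat.of A))]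
  [LocallyOfFiniteType (X ↘ Spec (CommRingCat.of A))] [QuasiCompact (X ↘ Spec (CommRingCat.of A))]

theorem levι_eq_sep (k : ℕ) : levι J X k = levTrans J X k ≫ levι J X (k + 1) := (levι_trans J X k).symm

theorem complTransIso_eq_sep (k : ℕ) : FSch.complTransIso (baseIdeal J X) k =
    Scheme.Modules.pullbackComp (levTrans J X k) (levι J X (k + 1)) ≪≫
      Scheme.Modules.pullbackCongr (levι_eq_sep J k).symm := rfl

theorem complMod_e_hom_sep (M : X.Modules) (k : ℕ) :
    ((FSch.complMod (baseIdeal J X) M).e k).hom = (lamb (levι_eq_sep J (X := X)) M k).hom := by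
  rw [FSch.complMod_e, Iso.app_hom, complTransIso_eq_sep]
  exact (lamb_hom _ M k).symm

/-- Completion is fully faithful on coherent modules with proper support. -/
theorem complModMap_bijective_supp (𝓘 : X.IdealSheafData) (h𝓘 : 𝓘 = baseIdeal J X) {M N : X.Modules}
    (hM : Coh.IsCoh M) (hN : Coh.IsCoh N) (hMs : FormalExist7.ProperSupp A M) :
    Function.Bijective (fun φ : M ⟶ N => FSch.complModMap 𝓘 φ) := by
  subst h𝓘
  refine (Function.bijective_iff_existsUnique _).2 fun α => ?_
  obtain ⟨φ, hφ, huniq⟩ := existsUnique_hom_levels_supp (isAdicSys_lev J X)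
    (fun k => isPullback_lev J X k) (levι_eq_sep J) hM hN hMs α.app (fun k => by
      rw [← complMod_e_hom_sep J N k, ← complMod_e_hom_sep J M k]
      exact α.comm k)
  exact ⟨φ, FSch.ModSys.Hom.ext (funext hφ), fun φ' hφ' => huniq φ' fun k =>
    congrFun (congrArg FSch.ModSys.Hom.app hφ') k⟩

end GrothLib.FFormal7
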