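import Groth.Agent.Lib.FFormal7.Compl
import Groth.Agent.Lib.OX.AffineLocal
import Groth.Agent.Lib.Ample.Criterion

/-!
# The completion of an affine scheme
-/

set_option autoImplicit false
set_option linter.style.haveILetI false
set_option linter.unusedSectionVars false
universe u

open CategoryTheory CategoryTheory.Limits AlgebraicGeometry Opposite TopologicalSpace

noncomputable section

namespace GrothLib.FFormal7

variable {A : Type u} [CommRing A] [IsNoetherianRing A] (J : Ideal A)

theorem specOverSelf_eq : (Spec (CommRingCat.of A) ↘ Spec (CommRingCat.of A)) = 𝟙 _ := by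
  show Spec.map (CommRingCat.ofHom (algebraMap A A)) = _
  rw [← Spec.map_id]
  rfl

/-- The ideal of `J` is the ideal of the base for the affine scheme over itself. -/
theorem idealSpec_eq_baseIdeal : FSch.idealSpec A J = baseIdeal J (Spec (CommRingCat.of A)) :=
  ((congrArg (FSch.idealSpec A J).comap specOverSelf_eq).trans (Scheme.IdealSheafData.comap_id _)).symm

instance isProper_self : IsProper (Spec (CommRingCat.of A) ↘ Spec (CommRingCat.of A)) :=
  specOverSelf_eq (A := A) ▸ inferInstanceAs (IsProper (𝟙 (Spec (CommRingCat.of A))))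

theorem isAmple_structureModule_of_isAffine (X : Scheme.{u}) [IsAffine X] :
    CohB1.IsAmple (Coh.structureModule X) :=
  (GrothLib.Ample.isQuasiAffine_iff).1 inferInstance

theorem tilde_map_bijective {R : CommRingCat.{u}} (M N : ModuleCat.{u} R) :
    Function.Bijective (fun u : M ⟶ N => (tilde.functor R).map u) :=
  ⟨fun _ _ h => (tilde.functor R).map_injective h, fun g => ⟨(tilde.functor R).preimage g, (tilde.functor R).map_preimage g⟩⟩

theorem exists_tilde_of_isCoh {F : (Spec (CommRingCat.of A)).Modules} (hF : Coh.IsCoh F) :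
    ∃ M : ModuleCat.{u} A, Module.Finite A M ∧ Nonempty (tilde (R := CommRingCat.of A) M ≅ F) := by
  haveI := hF.1
  obtain ⟨M, ⟨e⟩⟩ := (isIso_fromTildeΓ_iff (R := CommRingCat.of A) (M := F)).1
    (Scheme.Modules.isIso_fromTildeΓ_of_isQuasicoherent (R := CommRingCat.of A) F)
  exact ⟨M, (GrothLib.OX.isCoh_tilde_iff (R := CommRingCat.of A) M).1 (GrothLib.QCoh.isCoh_of_iso e.symm hF), ⟨e⟩⟩

end GrothLib.FFormal7
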