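import Groth.Agent.Lib.FFormal7.Supp

/-!
# Algebraization of coherent systems with proper support
-/

set_option autoImplicit false
set_option linter.style.haveILetI false
set_option linter.unusedSectionVars false
universe u

open CategoryTheory CategoryTheory.Limits AlgebraicGeometry Opposite TopologicalSpace

noncomputable section

namespace GrothLib.FFormal7

open GrothLib.UnifVanish7 GrothLib.Algz56
open GrothLib.FormalFun (toSec toStalk)
open GrothLib.QCoh (appLinear)

section Levels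

variable {A : Type u} [CommRing A] [IsNoetherianRing A] {J : Ideal A} {Xs : ℕ → Scheme.{u}}
  [hX : ∀ k, (Xs k).Over (Spec (CommRingCat.of A))]
  {i : (k : ℕ) → (Xs k ⟶ Xs (k + 1))}
  {p : (k : ℕ) → (Xs k ⟶ Spec (CommRingCat.of (A ⧸ J ^ (k + 1))))}
  {Y : Scheme.{u}} [Y.Over (Spec (CommRingCat.of A))] [IsSeparated (Y ↘ Spec (CommRingCat.of A))]
  [LocallyOfFiniteType (Y ↘ Spec (CommRingCat.of A))] [QuasiCompact (Y ↘ Spec (CommRingCat.of A))]
  {e : ∀ k, Xs k ⟶ Y}
  (h : IsAdicSys J i p)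
  (hpb : ∀ k, IsPullback (e k) (p k) (Y ↘ Spec (CommRingCat.of A)) (CohB1.specQuot J k))
  (hec : ∀ k, e k = i k ≫ e (k + 1))
  {F : (k : ℕ) → (Xs k).Modules} (hF : ∀ k, Coh.IsCoh (F k))
  (ψ : ∀ k, (Scheme.Modules.pullback (i k)).obj (F (k + 1)) ≅ F k)

include h hpb in
theorem isCoh_push_sep (k : ℕ) {M : (Xs k).Modules} (hM : Coh.IsCoh M) :
    Coh.IsCoh ((Scheme.Modules.pushforward (i k)).obj M) := by
  haveI := LocallyOfFiniteType.isLocallyNoetherian (Y ↘ Spec (CommRingCat.of A))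
  haveI := isClosedImmersion_i h k
  haveI := isClosedImmersion_e hpb (k + 1)
  haveI : IsLocallyNoetherian (Xs (k + 1)) := LocallyOfFiniteType.isLocallyNoetherian (e (k + 1))
  exact FormalExist7.isCoh_pushforward (i k) hM

include h hF in
theorem rho_surjective_sep (k : ℕ) (U : (Xs (k + 1)).affineOpens) : Function.Surjective ((rho ψ k).app U.1) := by
  haveI := isClosedImmersion_i h k
  haveI := (hF (k + 1)).1
  intro z
  obtain ⟨m, hm⟩ := (K0Sub.app_unit_surjective_and_ker (i k) (F (k + 1)) U).1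
    ((ψ k).inv.app (i k ⁻¹ᵁ U.1) z)
  refine ⟨m, ?_⟩
  refine (congrArg ((ψ k).hom.app (i k ⁻¹ᵁ U.1)) hm).trans ?_
  exact congrArg (fun φ : F k ⟶ F k => φ.app (i k ⁻¹ᵁ U.1) z) (ψ k).inv_hom_id

include h hF in
theorem rho_eq_zero_iff_sep (k : ℕ) (U : (Xs (k + 1)).affineOpens) (m : Γ(F (k + 1), U.1)) :
    (rho ψ k).app U.1 m = 0 ↔
      m ∈ (J ^ (k + 1)).map (toSec A U.1) • (⊤ : Submodule Γ(Xs (k + 1), U.1) Γ(F (k + 1), U.1)) := by
  haveI := isClosedImmersion_i h k
  haveI := (hF (k + 1)).1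
  rw [← ker_i h k U, ← (K0Sub.app_unit_surjective_and_ker (i k) (F (k + 1)) U).2 m]
  constructor
  · intro hm
    have e := congrArg ((ψ k).inv.app (i k ⁻¹ᵁ U.1)) hm
    have e := e.trans (map_zero _)
    refine (congrArg (fun φ : (Scheme.Modules.pullback (i k)).obj (F (k + 1)) ⟶ _ => φ.app (i k ⁻¹ᵁ U.1)
      ((K0Sub.unitApp (i k) (F (k + 1))).app U.1 m)) (ψ k).hom_inv_id).symm.trans ?_
    exact e
  · intro hm
    exact (congrArg ((ψ k).hom.app (i k ⁻¹ᵁ U.1)) hm).trans (map_zero _)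

include h hpb hF in
theorem epi_rho_sep (k : ℕ) : Epi (rho ψ k) := by
  haveI := (isCoh_push_sep h hpb k (hF k)).1
  exact K0Sub.epi_of_app_surjective _ (rho_surjective_sep h hF ψ k)

include h hpb hF in
theorem isQuot_pushTau_sep (k : ℕ) :
    FormalSys.IsQuot (J ^ (k + 1)) (pushTau hec ψ k) := by
  haveI := isClosedImmersion_i h k
  haveI := isClosedImmersion_e hpb (k + 1)
  haveI := (hF (k + 1)).1
  haveI := (isCoh_push_sep h hpb k (hF k)).1
  haveI := epi_rho_sep h hpb hF ψ k
  haveI := epi_push (e (k + 1)) (rho ψ k)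
  haveI : Epi (pushTau hec ψ k) := by unfold pushTau; exact epi_comp _ _
  refine FormalExist7.isQuot_of_stalk _ (killedBy_push h hpb k _) fun y v hv => ?_
  refine ker_stalkLin_of_sections (pushTau hec ψ k) (J ^ (k + 1)) (fun U m hm => ?_) y hv
  let T := (Scheme.Modules.pushforwardComp (i k) (e (k + 1))).hom.app (F k) ≫
    (Scheme.Modules.pushforwardCongr (hec k).symm).hom.app (F k)
  haveI : IsIso T := IsIso.comp_isIso' inferInstance inferInstance
  have h0 : (rho ψ k).app (e (k + 1) ⁻¹ᵁ U.1) m = 0 :=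
    Cohom.app_injective_of_mono T U.1 (show T.app U.1 ((rho ψ k).app (e (k + 1) ⁻¹ᵁ U.1) m) = T.app U.1 0 from
      hm.trans (map_zero _).symm)
  replace h0 := (rho_eq_zero_iff_sep h hF ψ k ⟨_, U.2.preimage (e (k + 1))⟩ m).1 h0
  let G := (Scheme.Modules.pushforward (e (k + 1))).obj (F (k + 1))
  let S : Submodule Γ(Y, U.1) Γ(G, U.1) := (J ^ (k + 1)).map (toSec A U.1) • ⊤
  let Q : Γ(F (k + 1), e (k + 1) ⁻¹ᵁ U.1) → Prop := fun z => (show Γ(G, U.1) from z) ∈ S
  show m ∈ S
  refine Submodule.smul_induction_on (p := Q) h0 (fun b hb x _ => ?_)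
    (fun x x' hx hx' => S.add_mem hx hx')
  refine Submodule.span_induction (p := fun b _ => ∀ x : Γ(F (k + 1), e (k + 1) ⁻¹ᵁ U.1),
    Q (b • x)) ?_ (fun x => ?_) (fun b b' _ _ hb hb' x => ?_)
    (fun c b _ hb x => ?_) hb x
  · rintro _ ⟨a, ha, rfl⟩ x
    have : toSec A U.1 a • (show Γ(G, U.1) from x) ∈ S :=
      Submodule.smul_mem_smul (Ideal.mem_map_of_mem _ ha) trivial
    rw [← app_toSec h hpb (k + 1) U.1 a]
    exact this
  · exact (congrArg Q (zero_smul _ x)).mpr S.zero_mem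
  · exact (congrArg Q (add_smul b b' x)).mpr (S.add_mem (hb x) (hb' x))
  · exact (congrArg Q ((congrArg (· • x) ((smul_eq_mul c b).trans (mul_comm c b))).trans (mul_smul b c x))).mpr
      (hb (c • x))

include h hpb hF in
theorem isCohFormal_pushSys_sep : Formal.IsCohFormal J (pushSys hec ψ) := by
  haveI := LocallyOfFiniteType.isLocallyNoetherian (Y ↘ Spec (CommRingCat.of A))
  refine ⟨fun k => ?_, fun k => killedBy_push h hpb k (F k), fun k => ?_⟩
  · haveI := isClosedImmersion_e hpb k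
    exact FormalExist7.isCoh_pushforward (e k) (hF k)
  · have e1 : (pushSys hec ψ).map (homOfLE (Nat.le_succ k)).op = pushTau hec ψ k :=
      Functor.ofOpSequence_map_homOfLE_succ
        (X := fun k => (Scheme.Modules.pushforward (e k)).obj (F k)) (fun k => pushTau hec ψ k) k
    rw [e1]
    exact isQuot_pushTau_sep h hpb hec hF ψ k

omit hF ψ in
include h hpb hec in
/-- Coherent modules on the levels with proper support come, compatibly, from a coherent module. -/
theorem exists_module_compat_supp [IsAdicComplete J A] {F : (k : ℕ) → (Xs k).Modules} (hF : ∀ k, Coh.IsCoh (F k))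
    (ψ : ∀ k, (Scheme.Modules.pullback (i k)).obj (F (k + 1)) ≅ F k) (h0 : FormalExist7.ProperSupp A ((Scheme.Modules.pushforward (e 0)).obj (F 0))) :
    ∃ (M : Y.Modules) (χ : ∀ k, (Scheme.Modules.pullback (e k)).obj M ≅ F k), Coh.IsCoh M ∧ FormalExist7.ProperSupp A M ∧
      ∀ k, (Scheme.Modules.pullback (i k)).map (χ (k + 1)).hom ≫ (ψ k).hom = (lamb hec M k).hom ≫ (χ k).hom := by
  obtain ⟨M, hM, hMs, ⟨θ⟩⟩ := FormalExist7.existence_properSupport J ‹_› _ (isCohFormal_pushSys_sep h hpb hec hF ψ) h0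
  let π : ∀ k, M ⟶ (Scheme.Modules.pushforward (e k)).obj (F k) := fun k =>
    Formal.modPowπ J (k + 1) M ≫ θ.hom.app (op k)
  have hπ : ∀ k, FormalSys.IsQuot (J ^ (k + 1)) (π k) := fun k => by
    haveI : IsIso (θ.hom.app (op k)) := (θ.app (op k)).isIso_hom
    exact @FormalSys.IsQuot.comp_isIso _ _ _ _ _ _ _ _ _ (FormalSys.IsQuot.modPowπ J (k + 1) M) (θ.hom.app (op k)) ‹_›
  have hπc : ∀ k, π (k + 1) ≫ pushTau hec ψ k = π k := fun k => by
    have e1 : (pushSys hec ψ).map (homOfLE (Nat.le_succ k)).op = pushTau hec ψ k :=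
      Functor.ofOpSequence_map_homOfLE_succ
        (X := fun k => (Scheme.Modules.pushforward (e k)).obj (F k)) (fun k => pushTau hec ψ k) k
    show (Formal.modPowπ J (k + 1 + 1) M ≫ θ.hom.app (op (k + 1))) ≫ pushTau hec ψ k = _
    rw [← e1]
    refine (Category.assoc _ _ _).trans ?_
    refine (congrArg (Formal.modPowπ J (k + 1 + 1) M ≫ ·) (θ.hom.naturality (homOfLE (Nat.le_succ k)).op).symm).trans ?_
    exact (Category.assoc _ _ _).symm.trans (congrArg (· ≫ θ.hom.app (op k)) (FormalSys.completion_map_succ M k))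
  have hχ : ∀ k, ∃ χ : (Scheme.Modules.pullback (e k)).obj M ≅ F k, adjunct (e k) χ.hom = π k := by
    intro k
    haveI := isClosedImmersion_e hpb k
    haveI := (hF k).1
    have hq := FormalExist7.isQuot_pullback (e k) (e_struct h hpb k) (hπ k)
    haveI := hq.isIso_of_killedBy (fun a ha => by
      refine Scheme.Modules.hom_ext _ _ fun U => ?_
      ext m
      refine (Coh.smulAb_app _ _ (op U) m).trans ?_
      exact (congrArg (fun z : Γ(Xs k, U) => z • (show Γ(((Scheme.Modules.pullback (e k)).obj M), U) from m))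
        (toSec_eq_zero h k U ha)).trans (zero_smul _ _))
    haveI := isIso_counit_closed (e k) (F k)
    refine ⟨asIso ((Scheme.Modules.pullback (e k)).map (π k)) ≪≫
      asIso ((Scheme.Modules.pullbackPushforwardAdjunction (e k)).counit.app (F k)), ?_⟩
    show (Scheme.Modules.pullbackPushforwardAdjunction (e k)).unit.app M ≫ (Scheme.Modules.pushforward (e k)).map
      ((Scheme.Modules.pullback (e k)).map (π k) ≫
        (Scheme.Modules.pullbackPushforwardAdjunction (e k)).counit.app (F k)) = π k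
    let adj := Scheme.Modules.pullbackPushforwardAdjunction (e k)
    exact ((adj.homEquiv_unit M (F k) _).symm.trans (congrArg (adj.homEquiv M (F k))
      (adj.homEquiv_counit M (F k) (π k)).symm)).trans ((adj.homEquiv M (F k)).apply_symm_apply (π k))
  choose χ hχ' using hχ
  exact ⟨M, χ, hM, hMs, fun k => (compat_iff hec ψ (fun j => (χ j).hom) k).2 (by rw [hχ', hχ', hπc])⟩


end Levels

variable {A : Type u} [CommRing A] [IsNoetherianRing A] (J : Ideal A) [IsAdicComplete J A]
  {X : Scheme.{u}} [X.Over (Spec (CommRingCat.of A))] [IsSeparated (X ↘ Spec (CommRingCat.of A))]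
  [LocallyOfFiniteType (X ↘ Spec (CommRingCat.of A))] [QuasiCompact (X ↘ Spec (CommRingCat.of A))]

/-- A coherent system on the completion is the completion of a coherent module. -/
theorem exists_iso_complMod_supp (𝓘 : X.IdealSheafData) (h𝓘 : 𝓘 = baseIdeal J X) (𝔐 : FSch.ModSys (FSch.completionAlong X 𝓘)) (h𝔐 : 𝔐.IsCoh)
    (h0 : FormalExist7.ProperSupp A ((Scheme.Modules.pushforward (FSch.completionToX X 𝓘 0)).obj (𝔐.F 0))) :
    ∃ M : X.Modules, Coh.IsCoh M ∧ FormalExist7.ProperSupp A M ∧ Nonempty (𝔐 ≅ FSch.complMod 𝓘 M) := by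
  subst h𝓘
  obtain ⟨M, χ, hM, hMs, hχ⟩ := exists_module_compat_supp (isAdicSys_lev J X)
    (fun k => isPullback_lev J X k) (levι_eq_sep J) h𝔐 𝔐.e h0
  refine ⟨M, hM, hMs, ⟨?_⟩⟩
  let f : FSch.complMod (baseIdeal J X) M ⟶ 𝔐 := ⟨fun k => (χ k).hom, fun k => by
    rw [complMod_e_hom_sep]
    exact hχ k⟩
  let g : 𝔐 ⟶ FSch.complMod (baseIdeal J X) M := ⟨fun k => (χ k).inv, fun k => by
    rw [complMod_e_hom_sep]
    haveI : IsIso ((Scheme.Modules.pullback (levTrans J X k)).map (χ (k + 1)).hom) := inferInstance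
    refine (cancel_epi ((Scheme.Modules.pullback (levTrans J X k)).map (χ (k + 1)).hom)).1 ?_
    refine Eq.trans ?_ ((Category.assoc _ _ _).symm.trans ((congrArg (· ≫ (χ k).inv) (hχ k)).trans
      ((Category.assoc _ _ _).trans ((congrArg ((lamb (levι_eq_sep J (X := X)) M k).hom ≫ ·) (χ k).hom_inv_id).trans
        (Category.comp_id _))))).symm
    refine (Category.assoc _ _ _).symm.trans ((congrArg (· ≫ (lamb (levι_eq_sep J (X := X)) M k).hom) ?_).trans (Category.id_comp _))
    exact ((Scheme.Modules.pullback (levTrans J X k)).map_comp _ _).symm.trans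
      ((congrArg (Scheme.Modules.pullback (levTrans J X k)).map (χ (k + 1)).hom_inv_id).trans
        ((Scheme.Modules.pullback (levTrans J X k)).map_id _))⟩
  exact ⟨g, f, FSch.ModSys.Hom.ext (funext fun k => (χ k).inv_hom_id),
    FSch.ModSys.Hom.ext (funext fun k => (χ k).hom_inv_id)⟩

end GrothLib.FFormal7
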