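import Groth.Prelude.Def_FSch5
import Groth.Agent.Lib.Thickening.Affine

/-!
# Sections of the structure sheaf of a formal system
-/

set_option autoImplicit false
set_option linter.style.haveILetI false
universe u

open CategoryTheory CategoryTheory.Limits AlgebraicGeometry TopologicalSpace Opposite

noncomputable section

namespace GrothLib.FFormal7

variable (𝔛 : FSch.Sys.{u}) (h : 𝔛.IsFormal)

theorem toX_preimage_lvU (n : ℕ) (U : (𝔛.X 0).Opens) : 𝔛.toX n ⁻¹ᵁ (𝔛.lvU h n U) = U := by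
  change (Opens.map ((𝔛.toX n).base ≫ 𝔛.gInv h n)).obj U = U
  rw [FSch.Sys.toX_base_gInv]
  rfl

/-- The opens over an affine open are affine. -/
theorem isAffineOpen_lvU {U : (𝔛.X 0).Opens} (hU : IsAffineOpen U) (n : ℕ) : IsAffineOpen (𝔛.lvU h n U) := by
  haveI := 𝔛.toX_isClosedImmersion h n
  haveI : Surjective (𝔛.toX n) := ⟨𝔛.toX_surjective h n⟩
  let j := 𝔛.toX n ∣_ 𝔛.lvU h n U
  haveI : IsClosedImmersion j := IsZariskiLocalAtTarget.restrict ‹_› _
  haveI : Surjective j := IsZariskiLocalAtTarget.restrict (P := @Surjective) ‹_› _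
  haveI : IsAffine (𝔛.toX n ⁻¹ᵁ 𝔛.lvU h n U).toScheme := (toX_preimage_lvU 𝔛 h n U).symm ▸ hU
  exact GrothLib.Thickening.isAffine_of_thickening j

/-- Transition maps are surjective over affine opens. -/
theorem levelMap_app_surjective {U : (𝔛.X 0).Opens} (hU : IsAffineOpen U) (n : ℕ) :
    Function.Surjective ((𝔛.levelMap h n).hom.app (op U)) := by
  haveI := (h n).1
  rw [FSch.Sys.levelMap_app, Scheme.Hom.appLE]
  have h1 := (𝔛.ι n).app_surjective (𝔛.lvU h (n + 1) U) (isAffineOpen_lvU 𝔛 h hU (n + 1))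
  haveI : IsIso ((𝔛.X n).presheaf.map (homOfLE (𝔛.lvU_le h n U)).op) :=
    (𝔛.X n).presheaf.map_isIso (eqToHom (congrArg op (𝔛.lvU_succ h n U)))
  exact (ConcreteCategory.bijective_of_isIso
    ((𝔛.X n).presheaf.map (homOfLE (𝔛.lvU_le h n U)).op)).2.comp h1

/-- Sections over an open, as sets. -/
abbrev ringSec (U : (𝔛.X 0).Opens) :
    Sheaf (Opens.grothendieckTopology (𝔛.X 0)) CommRingCat.{u} ⥤ Type u :=
  sheafToPresheaf _ _ ⋙ (evaluation _ _).obj (op U) ⋙ forget CommRingCat.{u}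

/-- A section from a compatible family of sections of the levels. -/
theorem exists_Osh_section (U : (𝔛.X 0).Opens) (s : ∀ n, (𝔛.levelObj h n).obj.obj (op U))
    (hs : ∀ n, (𝔛.levelMap h n).hom.app (op U) (s (n + 1)) = s n) :
    ∃ x : (𝔛.Osh h).obj.obj (op U), ∀ n, (𝔛.OshProj h n).hom.app (op U) x = s n := by
  let S : ∀ n : ℕᵒᵖ, (𝔛.levelRing h ⋙ ringSec 𝔛 U).obj n := fun n => s n.unop
  have hle : ∀ {m n : ℕ} (hmn : n ≤ m),
      (𝔛.levelRing h ⋙ ringSec 𝔛 U).map (homOfLE hmn).op (S (op m)) = S (op n) := by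
    intro m n hmn
    induction m, hmn using Nat.le_induction with
    | base => exact ConcreteCategory.congr_hom ((𝔛.levelRing h ⋙ ringSec 𝔛 U).map_id (op n)) (S (op n))
    | succ m hm ih =>
      refine (ConcreteCategory.congr_hom (show (𝔛.levelRing h ⋙ ringSec 𝔛 U).map (homOfLE (hm.trans (Nat.le_succ m))).op =
        (𝔛.levelRing h ⋙ ringSec 𝔛 U).map (homOfLE (Nat.le_succ m)).op ≫
          (𝔛.levelRing h ⋙ ringSec 𝔛 U).map (homOfLE hm).op from Functor.map_comp _ _ _) (S (op (m + 1)))).trans ?_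
      refine Eq.trans ?_ ih
      refine congrArg ((𝔛.levelRing h ⋙ ringSec 𝔛 U).map (homOfLE hm).op) ?_
      refine Eq.trans ?_ (hs m)
      exact congrArg (fun φ : 𝔛.levelObj h (m + 1) ⟶ 𝔛.levelObj h m => φ.hom.app (op U) (s (m + 1)))
        (𝔛.levelRing_map_succ h m)
  have hl := isLimitOfPreserves (ringSec 𝔛 U) (limit.isLimit (𝔛.levelRing h))
  refine ⟨(Types.isLimitEquivSections hl).symm ⟨S, fun {a b} f => hle f.unop.le⟩, fun n => ?_⟩
  exact Types.isLimitEquivSections_symm_apply hl _ (op n)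

theorem Osh_section_ext (U : (𝔛.X 0).Opens) (x y : (𝔛.Osh h).obj.obj (op U))
    (hxy : ∀ n, (𝔛.OshProj h n).hom.app (op U) x = (𝔛.OshProj h n).hom.app (op U) y) : x = y := by
  have hl := isLimitOfPreserves (ringSec 𝔛 U) (limit.isLimit (𝔛.levelRing h))
  refine (Types.isLimitEquivSections hl).injective (Subtype.ext (funext fun n => ?_))
  exact hxy n.unop

theorem OshProj_levelMap_apply (U : (𝔛.X 0).Opens) (n : ℕ) (x : (𝔛.Osh h).obj.obj (op U)) :
    (𝔛.levelMap h n).hom.app (op U) ((𝔛.OshProj h (n + 1)).hom.app (op U) x) = (𝔛.OshProj h n).hom.app (op U) x :=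
  congrArg (fun φ : 𝔛.Osh h ⟶ 𝔛.levelObj h n => φ.hom.app (op U) x) (𝔛.OshProj_levelMap h n)

/-- The projections of the structure sheaf are surjective over affine opens. -/
theorem OshProj_app_surjective {U : (𝔛.X 0).Opens} (hU : IsAffineOpen U) (i : ℕ) :
    Function.Surjective ((𝔛.OshProj h i).hom.app (op U)) := by
  intro c
  choose g hg using levelMap_app_surjective 𝔛 h hU
  let up : ∀ k, (𝔛.levelObj h (i + k)).obj.obj (op U) := fun k => Nat.rec c (fun k ak => g (i + k) ak) k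
  have hup : ∀ k, (𝔛.levelMap h (i + k)).hom.app (op U) (up (k + 1)) = up k := fun k => hg (i + k) (up k)
  let down : ∀ (m n : ℕ), n ≤ m → (𝔛.levelObj h m).obj.obj (op U) → (𝔛.levelObj h n).obj.obj (op U) :=
    fun m n hmn x => ((𝔛.levelRing h).map (homOfLE hmn).op).hom.app (op U) x
  let s : ∀ n, (𝔛.levelObj h n).obj.obj (op U) := fun n => down (i + n) n (Nat.le_add_left n i) (up n)
  have hdown : ∀ {l m n : ℕ} (hml : m ≤ l) (hnm : n ≤ m) (x), down m n hnm (down l m hml x) = down l n (hnm.trans hml) x := by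
    intro l m n hml hnm x
    exact (congrArg (fun φ : (𝔛.levelRing h).obj (op l) ⟶ (𝔛.levelRing h).obj (op n) => φ.hom.app (op U) x)
      (show (𝔛.levelRing h).map (homOfLE (hnm.trans hml)).op = (𝔛.levelRing h).map (homOfLE hml).op ≫
        (𝔛.levelRing h).map (homOfLE hnm).op from Functor.map_comp _ _ _)).symm
  have hsucc : ∀ m (x), down (m + 1) m (Nat.le_succ m) x = (𝔛.levelMap h m).hom.app (op U) x := fun m x =>
    congrArg (fun φ : 𝔛.levelObj h (m + 1) ⟶ 𝔛.levelObj h m => φ.hom.app (op U) x) (𝔛.levelRing_map_succ h m)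
  obtain ⟨x, hx⟩ := exists_Osh_section 𝔛 h U s fun n => by
    rw [← hsucc]
    show down (n + 1) n _ (down (i + n + 1) (n + 1) _ (up (n + 1))) = down (i + n) n _ (up n)
    rw [hdown, ← hup n, ← hsucc, hdown]
  refine ⟨x, ?_⟩
  rw [hx i]
  show down (i + i) i _ (up i) = c
  have : ∀ k, down (i + k) i (Nat.le_add_right i k) (up k) = c := by
    intro k
    induction k with
    | zero =>
      exact congrArg (fun φ : (𝔛.levelRing h).obj (op i) ⟶ (𝔛.levelRing h).obj (op i) => φ.hom.app (op U) c)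
        ((𝔛.levelRing h).map_id (op i))
    | succ k ih => rw [← ih, ← hup k, ← hsucc, hdown]
  exact this i

end GrothLib.FFormal7
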