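import Groth.Agent.Lib.FFormal7.Adjunct

/-!
# Compatible systems of modules on the levels and coherent modules
-/

set_option autoImplicit false
set_option linter.style.haveILetI false
set_option linter.unusedSectionVars false
universe u

open CategoryTheory CategoryTheory.Limits AlgebraicGeometry Opposite TopologicalSpace

noncomputable section

namespace GrothLib.FFormal7

open GrothLib.UnifVanish7 GrothLib.Algz56
open GrothLib.FormalFun (toSec toStalk)

variable {A : Type u} [CommRing A] [IsNoetherianRing A] {J : Ideal A} {Xs : ℕ → Scheme.{u}}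
  [hX : ∀ k, (Xs k).Over (Spec (CommRingCat.of A))]
  {i : (k : ℕ) → (Xs k ⟶ Xs (k + 1))}
  {p : (k : ℕ) → (Xs k ⟶ Spec (CommRingCat.of (A ⧸ J ^ (k + 1))))}
  {Y : Scheme.{u}} [Y.Over (Spec (CommRingCat.of A))] [IsProper (Y ↘ Spec (CommRingCat.of A))]
  {e : ∀ k, Xs k ⟶ Y}
  (h : IsAdicSys J i p) (hp : IsProper (p 0))
  (hpb : ∀ k, IsPullback (e k) (p k) (Y ↘ Spec (CommRingCat.of A)) (CohB1.specQuot J k))
  (hec : ∀ k, e k = i k ≫ e (k + 1))

/-- The transition isomorphisms of the pullbacks of a module. -/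
def lamb (M : Y.Modules) (k : ℕ) :
    (Scheme.Modules.pullback (i k)).obj ((Scheme.Modules.pullback (e (k + 1))).obj M) ≅
      (Scheme.Modules.pullback (e k)).obj M :=
  (Scheme.Modules.pullbackComp (i k) (e (k + 1))).app M ≪≫ (Scheme.Modules.pullbackCongr (hec k).symm).app M

theorem lamb_inv_comp (M : Y.Modules) {F : (k : ℕ) → (Xs k).Modules}
    (ψ : ∀ k, (Scheme.Modules.pullback (i k)).obj (F (k + 1)) ≅ F k) (k : ℕ)
    (α : (Scheme.Modules.pullback (e (k + 1))).obj M ⟶ F (k + 1)) :
    (lamb hec M k).inv ≫ (Scheme.Modules.pullback (i k)).map α ≫ (ψ k).hom = lowerMap (hec k) α (ψ k) := by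
  have : ((Scheme.Modules.pullbackCongr (hec k).symm).app M).inv = (Scheme.Modules.pullbackCongr (hec k)).hom.app M := by
    simp [Scheme.Modules.pullbackCongr, eqToHom_app]
  simp only [lamb, Iso.trans_inv, Category.assoc, this]
  rfl

/-- Compatible families of maps from the pullbacks are compatible families of adjuncts. -/
theorem compat_iff {M : Y.Modules} {F : (k : ℕ) → (Xs k).Modules}
    (ψ : ∀ k, (Scheme.Modules.pullback (i k)).obj (F (k + 1)) ≅ F k)
    (χ : ∀ k, (Scheme.Modules.pullback (e k)).obj M ⟶ F k) (k : ℕ) :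
    (Scheme.Modules.pullback (i k)).map (χ (k + 1)) ≫ (ψ k).hom = (lamb hec M k).hom ≫ χ k ↔
      adjunct (e (k + 1)) (χ (k + 1)) ≫ pushTau hec ψ k = adjunct (e k) (χ k) := by
  have h1 : adjunct (e k) (lowerMap (hec k) (χ (k + 1)) (ψ k)) = adjunct (e (k + 1)) (χ (k + 1)) ≫ pushTau hec ψ k :=
    adjunct_lowerMap (hec k) (χ (k + 1)) (ψ k)
  rw [← h1]
  constructor
  · intro hc
    rw [← lamb_inv_comp hec M ψ k, hc, Iso.inv_hom_id_assoc]
  · intro hc
    rw [← adjunct_injective (e k) hc, ← lamb_inv_comp hec M ψ k, Iso.hom_inv_id_assoc]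

include h hp hpb in
/-- The adjunct of an isomorphism is a quotient by the power of the ideal. -/
theorem isQuot_adjunct {M : Y.Modules} (hM : Coh.IsCoh M) (k : ℕ) {F : (Xs k).Modules}
    (χ : (Scheme.Modules.pullback (e k)).obj M ⟶ F) [IsIso χ] :
    FormalSys.IsQuot (J ^ (k + 1)) (adjunct (e k) χ) := by
  haveI := SerreVanish.isNoetherian_of_proper (X := Y) A
  haveI := isClosedImmersion_e hpb k
  haveI := hM.1
  have hc : Coh.IsCoh ((Scheme.Modules.pushforward (e k)).obj ((Scheme.Modules.pullback (e k)).obj M)) := by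
    haveI := isNoetherian_level h hp k
    exact FormalExist7.isCoh_pushforward (e k) (FormalExist7.isCoh_pullbackMod (e k) hM)
  haveI : ((Scheme.Modules.pullback (e k) ⋙ Scheme.Modules.pushforward (e k)).obj M).IsQuasicoherent := hc.1
  haveI : Epi ((Scheme.Modules.pullbackPushforwardAdjunction (e k)).unit.app M) :=
    K0Sub.epi_of_app_surjective _ fun U => (K0Sub.app_unit_surjective_and_ker (e k) M U).1
  refine FormalSys.IsQuot.comp_isIso ?_ ((Scheme.Modules.pushforward (e k)).map χ)
  refine FormalExist7.isQuot_of_stalk _ (killedBy_push h hpb k _) fun y v hv => ?_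
  refine ker_stalkLin_of_sections _ (J ^ (k + 1)) (fun U m hm => ?_) y hv
  rw [← ker_e hpb k U]
  exact ((K0Sub.app_unit_surjective_and_ker (e k) M U).2 m).1 hm

/-- Maps to a compatible family of quotients come from a unique map. -/
theorem existsUnique_hom_quots [IsAdicComplete J A] {M N : Y.Modules} (hM : Coh.IsCoh M) (hN : Coh.IsCoh N)
    (Q : ℕ → Y.Modules) (t : ∀ k, Q (k + 1) ⟶ Q k) (u : ∀ k, N ⟶ Q k)
    (hu : ∀ k, FormalSys.IsQuot (J ^ (k + 1)) (u k)) (hut : ∀ k, u (k + 1) ≫ t k = u k)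
    (g : ∀ k, M ⟶ Q k) (hg : ∀ k, g (k + 1) ≫ t k = g k) : ∃! φ : M ⟶ N, ∀ k, φ ≫ u k = g k := by
  choose eN heN using fun k => (FormalSys.IsQuot.modPowπ J (k + 1) N).exists_iso (hu k)
  choose d hd using fun k => (FormalSys.IsQuot.modPowπ J (k + 1) M).exists_desc' (g k) (hu k).killedBy
  have hNt : ∀ k, (Formal.completion J N).map (homOfLE (Nat.le_succ k)).op ≫ (eN k).hom =
      (eN (k + 1)).hom ≫ t k := fun k => by
    haveI := (FormalSys.IsQuot.modPowπ J (k + 1 + 1) N).epi
    refine (cancel_epi (Formal.modPowπ J (k + 1 + 1) N)).1 ?_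
    refine (Category.assoc _ _ _).symm.trans ?_
    refine ((congrArg (· ≫ (eN k).hom) (FormalSys.completion_map_succ N k)).trans (heN k)).trans ?_
    rw [reassoc_of% (heN (k + 1)), hut]
  let β : ∀ k, Formal.modPow J (k + 1) M ⟶ Formal.modPow J (k + 1) N := fun k => d k ≫ (eN k).inv
  have hβ : ∀ k, Formal.modPowπ J (k + 1) M ≫ β k ≫ (eN k).hom = g k := fun k => by
    simp only [β, Category.assoc, Iso.inv_hom_id, Category.comp_id]
    exact hd k
  let β' : Formal.completion J M ⟶ Formal.completion J N := FormalSys.natTrans β fun k => by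
    haveI := (FormalSys.IsQuot.modPowπ J (k + 1 + 1) M).epi
    refine (cancel_epi (Formal.modPowπ J (k + 1 + 1) M)).1 ((cancel_mono (eN k).hom).1 ?_)
    calc (Formal.modPowπ J (k + 1 + 1) M ≫ (Formal.completion J M).map (homOfLE (Nat.le_succ k)).op ≫ β k) ≫ (eN k).hom
        = Formal.modPowπ J (k + 1) M ≫ β k ≫ (eN k).hom := by
          rw [← Category.assoc, FormalSys.completion_map_succ]; exact Category.assoc _ _ _
      _ = g (k + 1) ≫ t k := (hβ k).trans (hg k).symm
      _ = (Formal.modPowπ J (k + 1 + 1) M ≫ β (k + 1) ≫ (eN (k + 1)).hom) ≫ t k := by rw [hβ (k + 1)]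
      _ = _ := by
          refine ((Category.assoc _ _ _).trans (congrArg (Formal.modPowπ J (k + 1 + 1) M ≫ ·) ((Category.assoc _ _ _).trans
            (congrArg (β (k + 1) ≫ ·) (hNt k).symm)))).trans ?_
          exact ((Category.assoc _ _ _).trans (congrArg (Formal.modPowπ J (k + 1 + 1) M ≫ ·) (Category.assoc _ _ _))).symm
  obtain ⟨φ, hφ, huniq⟩ := FormalExist7.existsUnique_hom_of_proper J M N hM hN β'
  have key : ∀ (φ : M ⟶ N) (k : ℕ), φ ≫ u k = g k ↔
      Formal.modPowπ J (k + 1) M ≫ β k = φ ≫ Formal.modPowπ J (k + 1) N := fun φ k => by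
    constructor
    · intro hc
      exact (cancel_mono (eN k).hom).1 ((Category.assoc _ _ _).trans ((hβ k).trans (hc.symm.trans
        ((congrArg (φ ≫ ·) (heN k)).symm.trans (Category.assoc _ _ _).symm))))
    · intro hc
      exact (congrArg (φ ≫ ·) (heN k)).symm.trans ((Category.assoc _ _ _).symm.trans
        ((congrArg (· ≫ (eN k).hom) hc.symm).trans ((Category.assoc _ _ _).trans (hβ k))))
  exact ⟨φ, fun k => (key φ k).2 (hφ k), fun φ' hφ' => huniq φ' fun k => (key φ' k).1 (hφ' k)⟩

/-- The pullback of a module to a level. -/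
abbrev pushPull (e : ∀ k, Xs k ⟶ Y) (N : Y.Modules) (j : ℕ) : (Xs j).Modules := (Scheme.Modules.pullback (e j)).obj N

theorem compat_id (N : Y.Modules) (k : ℕ) :
    adjunct (e (k + 1)) (𝟙 (pushPull e N (k + 1))) ≫ pushTau (F := pushPull e N) hec (lamb hec N) k =
      adjunct (e k) (𝟙 (pushPull e N k)) :=
  (compat_iff hec (F := pushPull e N) (lamb hec N) (fun j => 𝟙 (pushPull e N j)) k).1
    (((congrArg (· ≫ (lamb hec N k).hom) ((Scheme.Modules.pullback (i k)).map_id _)).trans (Category.id_comp _)).trans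
      (Category.comp_id _).symm)

include h hp hpb in
/-- Morphisms of coherent modules are the compatible families of morphisms of their levels. -/
theorem existsUnique_hom_levels [IsAdicComplete J A] {M N : Y.Modules} (hM : Coh.IsCoh M) (hN : Coh.IsCoh N)
    (α : ∀ k, pushPull e M k ⟶ pushPull e N k)
    (hα : ∀ k, (Scheme.Modules.pullback (i k)).map (α (k + 1)) ≫ (lamb hec N k).hom = (lamb hec M k).hom ≫ α k) :
    ∃! φ : M ⟶ N, ∀ k, (Scheme.Modules.pullback (e k)).map φ = α k := by
  obtain ⟨φ, hφ, huniq⟩ := existsUnique_hom_quots hM hN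
    (fun j => (Scheme.Modules.pushforward (e j)).obj (pushPull e N j))
    (fun j => pushTau (F := pushPull e N) hec (lamb hec N) j)
    (fun j => adjunct (e j) (𝟙 (pushPull e N j))) (fun j => isQuot_adjunct h hp hpb hN j (𝟙 (pushPull e N j)))
    (fun j => compat_id hec N j)
    (fun j => adjunct (e j) (α j)) (fun j => (compat_iff hec (F := pushPull e N) (lamb hec N) α j).1 (hα j))
  refine ⟨φ, fun k => adjunct_injective (e k) ((adjunct_map (e k) φ).trans (hφ k)), fun φ' hφ' => huniq φ' fun k => ?_⟩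
  exact (adjunct_map (e k) φ').symm.trans (congrArg (adjunct (e k)) (hφ' k))

include h hp hpb in
/-- Coherent modules on the levels come, compatibly, from a coherent module. -/
theorem exists_module_compat [IsAdicComplete J A] {F : (k : ℕ) → (Xs k).Modules} (hF : ∀ k, Coh.IsCoh (F k))
    (ψ : ∀ k, (Scheme.Modules.pullback (i k)).obj (F (k + 1)) ≅ F k) {Lo : Y.Modules} (hLo : CohB1.IsAmple Lo) :
    ∃ (M : Y.Modules) (χ : ∀ k, (Scheme.Modules.pullback (e k)).obj M ≅ F k), Coh.IsCoh M ∧
      ∀ k, (Scheme.Modules.pullback (i k)).map (χ (k + 1)).hom ≫ (ψ k).hom = (lamb hec M k).hom ≫ (χ k).hom := by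
  obtain ⟨M, hM, ⟨θ⟩⟩ := FormalExist7.existence_of_isAmple hLo J _ (isCohFormal_pushSys h hp hpb hec hF ψ)
  let π : ∀ k, M ⟶ (Scheme.Modules.pushforward (e k)).obj (F k) := fun k =>
    Formal.modPowπ J (k + 1) M ≫ θ.hom.app (op k)
  have hπ : ∀ k, FormalSys.IsQuot (J ^ (k + 1)) (π k) := fun k => by
    haveI : IsIso (θ.hom.app (op k)) := (θ.app (op k)).isIso_hom
    exact @FormalSys.IsQuot.comp_isIso _ _ _ _ _ _ _ _ _ (FormalSys.IsQuot.modPowπ J (k + 1) M) (θ.hom.app (op k)) ‹_›
  have hπc : ∀ k, π (k + 1) ≫ pushTau hec ψ k = π k := fun k => by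
    have e1 : (pushSys hec ψ).map (homOfLE (Nat.le_succ k)).op = pushTau hec ψ k :=
      Functor.ofOpSequence_map_homOfLE_succ
        (X := fun k => (Scheme.Modules.pushforward (e k)).obj (F k)) (fun k => pushTau hec ψ k) k
    show (Formal.modPowπ J (k + 1 + 1) M ≫ θ.hom.app (op (k + 1))) ≫ pushTau hec ψ k = _
    rw [← e1]
    refine (Category.assoc _ _ _).trans ?_
    refine (congrArg (Formal.modPowπ J (k + 1 + 1) M ≫ ·) (θ.hom.naturality (homOfLE (Nat.le_succ k)).op).symm).trans ?_
    exact (Category.assoc _ _ _).symm.trans (congrArg (· ≫ θ.hom.app (op k)) (FormalSys.completion_map_succ M k))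
  have hχ : ∀ k, ∃ χ : (Scheme.Modules.pullback (e k)).obj M ≅ F k, adjunct (e k) χ.hom = π k := by
    intro k
    haveI := isClosedImmersion_e hpb k
    haveI := (hF k).1
    have hq := FormalExist7.isQuot_pullback (e k) (e_struct h hpb k) (hπ k)
    haveI := hq.isIso_of_killedBy (fun a ha => by
      refine Scheme.Modules.hom_ext _ _ fun U => ?_
      ext m
      refine (Coh.smulAb_app _ _ (op U) m).trans ?_
      exact (congrArg (fun z : Γ(Xs k, U) => z • (show Γ(((Scheme.Modules.pullback (e k)).obj M), U) from m))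
        (toSec_eq_zero h k U ha)).trans (zero_smul _ _))
    haveI := isIso_counit_closed (e k) (F k)
    refine ⟨asIso ((Scheme.Modules.pullback (e k)).map (π k)) ≪≫
      asIso ((Scheme.Modules.pullbackPushforwardAdjunction (e k)).counit.app (F k)), ?_⟩
    show (Scheme.Modules.pullbackPushforwardAdjunction (e k)).unit.app M ≫ (Scheme.Modules.pushforward (e k)).map
      ((Scheme.Modules.pullback (e k)).map (π k) ≫
        (Scheme.Modules.pullbackPushforwardAdjunction (e k)).counit.app (F k)) = π k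
    let adj := Scheme.Modules.pullbackPushforwardAdjunction (e k)
    exact ((adj.homEquiv_unit M (F k) _).symm.trans (congrArg (adj.homEquiv M (F k))
      (adj.homEquiv_counit M (F k) (π k)).symm)).trans ((adj.homEquiv M (F k)).apply_symm_apply (π k))
  choose χ hχ' using hχ
  exact ⟨M, χ, hM, fun k => (compat_iff hec ψ (fun j => (χ j).hom) k).2 (by rw [hχ', hχ', hπc])⟩

end GrothLib.FFormal7
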