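import Groth.Agent.Lib.FFormal7.Levels
import Groth.Agent.Lib.FFormal7.Sys
import Groth.Prelude.Def_FSch3

/-!
# Coherent modules on the completion of a proper scheme along the ideal of the base
-/

set_option autoImplicit false
set_option linter.style.haveILetI false
set_option linter.unusedSectionVars false
universe u

open CategoryTheory CategoryTheory.Limits AlgebraicGeometry Opposite TopologicalSpace

noncomputable section

namespace GrothLib.FFormal7

variable {A : Type u} [CommRing A] [IsNoetherianRing A] (J : Ideal A) [IsAdicComplete J A]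
  {X : Scheme.{u}} [X.Over (Spec (CommRingCat.of A))] [IsProper (X ↘ Spec (CommRingCat.of A))]

theorem levι_eq (k : ℕ) : levι J X k = levTrans J X k ≫ levι J X (k + 1) := (levι_trans J X k).symm

theorem complTransIso_eq (k : ℕ) : FSch.complTransIso (baseIdeal J X) k =
    Scheme.Modules.pullbackComp (levTrans J X k) (levι J X (k + 1)) ≪≫
      Scheme.Modules.pullbackCongr (levι_eq J k).symm := rfl

theorem lamb_hom {Y : Scheme.{u}} {Xs : ℕ → Scheme.{u}} {i : ∀ k, Xs k ⟶ Xs (k + 1)} {e : ∀ k, Xs k ⟶ Y}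
    (hec : ∀ k, e k = i k ≫ e (k + 1)) (M : Y.Modules) (k : ℕ) : (lamb hec M k).hom =
      (Scheme.Modules.pullbackComp (i k) (e (k + 1)) ≪≫ Scheme.Modules.pullbackCongr (hec k).symm).hom.app M := rfl

theorem complMod_e_hom (M : X.Modules) (k : ℕ) :
    ((FSch.complMod (baseIdeal J X) M).e k).hom = (lamb (levι_eq J (X := X)) M k).hom := by
  rw [FSch.complMod_e, Iso.app_hom, complTransIso_eq]
  exact (lamb_hom _ M k).symm

/-- Completion is fully faithful on coherent modules. -/
theorem complModMap_bijective (𝓘 : X.IdealSheafData) (h𝓘 : 𝓘 = baseIdeal J X) {M N : X.Modules}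
    (hM : Coh.IsCoh M) (hN : Coh.IsCoh N) :
    Function.Bijective (fun φ : M ⟶ N => FSch.complModMap 𝓘 φ) := by
  subst h𝓘
  refine (Function.bijective_iff_existsUnique _).2 fun α => ?_
  obtain ⟨φ, hφ, huniq⟩ := existsUnique_hom_levels (isAdicSys_lev J X) (isProper_levBase J X 0)
    (fun k => isPullback_lev J X k) (levι_eq J) hM hN α.app (fun k => by
      rw [← complMod_e_hom J N k, ← complMod_e_hom J M k]
      exact α.comm k)
  exact ⟨φ, FSch.ModSys.Hom.ext (funext hφ), fun φ' hφ' => huniq φ' fun k =>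
    congrFun (congrArg FSch.ModSys.Hom.app hφ') k⟩

/-- A coherent system on the completion is the completion of a coherent module. -/
theorem exists_iso_complMod (𝓘 : X.IdealSheafData) (h𝓘 : 𝓘 = baseIdeal J X) {L : X.Modules}
    (hL : CohB1.IsAmple L) (𝔐 : FSch.ModSys (FSch.completionAlong X 𝓘)) (h𝔐 : 𝔐.IsCoh) :
    ∃ M : X.Modules, Coh.IsCoh M ∧ Nonempty (𝔐 ≅ FSch.complMod 𝓘 M) := by
  subst h𝓘
  obtain ⟨M, χ, hM, hχ⟩ := exists_module_compat (isAdicSys_lev J X) (isProper_levBase J X 0)
    (fun k => isPullback_lev J X k) (levι_eq J) h𝔐 𝔐.e hL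
  refine ⟨M, hM, ⟨?_⟩⟩
  let f : FSch.complMod (baseIdeal J X) M ⟶ 𝔐 := ⟨fun k => (χ k).hom, fun k => by
    rw [complMod_e_hom]
    exact hχ k⟩
  let g : 𝔐 ⟶ FSch.complMod (baseIdeal J X) M := ⟨fun k => (χ k).inv, fun k => by
    rw [complMod_e_hom]
    haveI : IsIso ((Scheme.Modules.pullback (levTrans J X k)).map (χ (k + 1)).hom) := inferInstance
    refine (cancel_epi ((Scheme.Modules.pullback (levTrans J X k)).map (χ (k + 1)).hom)).1 ?_
    refine Eq.trans ?_ ((Category.assoc _ _ _).symm.trans ((congrArg (· ≫ (χ k).inv) (hχ k)).trans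
      ((Category.assoc _ _ _).trans ((congrArg ((lamb (levι_eq J (X := X)) M k).hom ≫ ·) (χ k).hom_inv_id).trans
        (Category.comp_id _))))).symm
    refine (Category.assoc _ _ _).symm.trans ((congrArg (· ≫ (lamb (levι_eq J (X := X)) M k).hom) ?_).trans (Category.id_comp _))
    exact ((Scheme.Modules.pullback (levTrans J X k)).map_comp _ _).symm.trans
      ((congrArg (Scheme.Modules.pullback (levTrans J X k)).map (χ (k + 1)).hom_inv_id).trans
        ((Scheme.Modules.pullback (levTrans J X k)).map_id _))⟩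
  exact ⟨g, f, FSch.ModSys.Hom.ext (funext fun k => (χ k).inv_hom_id),
    FSch.ModSys.Hom.ext (funext fun k => (χ k).hom_inv_id)⟩

end GrothLib.FFormal7
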